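import Cfsg.Agent.Lib.Geometric.TensorMaps

/-!
The rank of a Kronecker product of two quadratic unipotent maps minus one, when the factors have
consecutive dimensions.
-/

namespace CfsgLib.Geometric.Tensor

open Matrix

variable {ι : Type} [Fintype ι] [DecidableEq ι] {F : Type*} [Field F]
variable {n₁ n₂ : ℕ} (e : ι ≃ Fin n₁ × Fin n₂) (P : GL ι F)

/-- For square zero maps `N ≠ 0` and `M` the map `(1 + N) ⊗ (1 + M) - 1` does not have rank
`2 n₁` if `n₂ = n₁ + 1 ≥ 5`. -/
theorem finrank_range_ne_two_mul (h5 : 5 ≤ n₂) (hgap : n₂ = n₁ + 1)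
    {N : (Fin n₁ → F) →ₗ[F] (Fin n₁ → F)} {M : (Fin n₂ → F) →ₗ[F] (Fin n₂ → F)}
    (hN : N ≠ 0) (hNN : ∀ x, N (N x) = 0) (hMM : ∀ r, M (M r) = 0)
    {Φ : (ι → F) →ₗ[F] (ι → F)}
    (hΦ : ∀ x r, Φ (pt e P x r) = pt e P (N x) (r + M r) + pt e P x (M r)) :
    Module.finrank F (LinearMap.range Φ) ≠ 2 * n₁ := by
  intro hrank
  have hfun : ∀ {m : ℕ} {x : Fin m → F}, x ≠ 0 → ∃ η : (Fin m → F) →ₗ[F] F, η x = 1 :=
    fun {m x} hx => by
      obtain ⟨η, -, hη⟩ := exists_functional_eq_one (U := (⊥ : Submodule F (Fin m → F))) (x := x)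
        (by simpa using hx)
      exact ⟨η, hη⟩
  obtain ⟨q, hq⟩ : ∃ q, N q ≠ 0 := by
    by_contra hc
    push Not at hc
    exact hN (LinearMap.ext hc)
  by_cases htwo : ∃ u, N u ∉ Submodule.span F {N q}
  · obtain ⟨u, hu⟩ := htwo
    let L : (Fin n₂ → F) × (Fin n₂ → F) →ₗ[F] (ι → F) :=
      (Φ.comp (ptr e P q)).coprod (Φ.comp (ptr e P u))
    have hq' : N q ∉ Submodule.span F {N u} := fun h => by
      obtain ⟨s, hs⟩ := Submodule.mem_span_singleton.mp h
      have hs0 : s ≠ 0 := fun h0 => hq (by rw [← hs, h0, zero_smul])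
      exact hu (Submodule.mem_span_singleton.mpr ⟨s⁻¹, by rw [← hs, inv_smul_smul₀ hs0]⟩)
    have key : ∀ a b : Fin n₁ → F, N a ∉ Submodule.span F {N b} → N b ≠ 0 →
        ∃ δ : (Fin n₁ → F) →ₗ[F] F, δ (N a) = 1 ∧ δ (N b) = 0 ∧ δ a = 0 ∧ δ b = 0 := by
      intro a b hab hb
      obtain ⟨δ, hδ, hδ1⟩ := exists_functional_eq_one
        (U := Submodule.span F ({N b, a, b} : Set (Fin n₁ → F))) (x := N a) (by
          intro hm
          obtain ⟨s, z, hz, hs⟩ := Submodule.mem_span_insert.mp hm
          obtain ⟨t₁, t₂, rfl⟩ := Submodule.mem_span_pair.mp hz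
          have h0 := congrArg N hs
          simp only [map_add, map_smul, hNN, smul_zero, zero_add] at h0
          have ht₁ : t₁ = 0 := by
            by_contra ht
            exact hab (Submodule.mem_span_singleton.mpr ⟨-(t₁⁻¹ * t₂), by
              rw [neg_smul, ← smul_smul, eq_neg_of_add_eq_zero_right h0.symm, smul_neg, neg_neg,
                inv_smul_smul₀ ht]⟩)
          rw [ht₁, zero_smul, zero_add] at h0 hs
          rw [(smul_eq_zero.mp h0.symm).resolve_right hb, zero_smul, add_zero] at hs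
          exact hab (Submodule.mem_span_singleton.mpr ⟨s, hs.symm⟩))
      exact ⟨δ, hδ1, hδ _ (Submodule.subset_span (by simp)),
        hδ _ (Submodule.subset_span (by simp)), hδ _ (Submodule.subset_span (by simp))⟩
    have hinj : Function.Injective L := by
      rw [injective_iff_map_eq_zero]
      rintro ⟨r, r'⟩ h
      simp only [L, LinearMap.coprod_apply, LinearMap.comp_apply, ptr_apply, hΦ] at h
      have hz : ∀ z, z + M z = 0 → z = 0 := fun z hz => by
        have := congrArg M hz
        rw [map_add, hMM, add_zero, map_zero] at this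
        rwa [this, add_zero] at hz
      obtain ⟨δ, h1, h2, h3, h4⟩ := key q u hq' fun h0 => hu (by rw [h0]; exact Submodule.zero_mem _)
      obtain ⟨δ', h1', h2', h3', h4'⟩ := key u q hu hq
      have e1 := congrArg (conr e P δ) h
      have e2 := congrArg (conr e P δ') h
      simp only [map_add, conr_pt, h1, h2, h3, h4, h1', h2', h3', h4', one_smul, zero_smul,
        add_zero, zero_add, map_zero] at e1 e2
      rw [hz r e1, hz r' e2]
      rfl
    have hle : LinearMap.range L ≤ LinearMap.range Φ := by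
      rintro _ ⟨⟨r, r'⟩, rfl⟩
      exact ⟨pt e P q r + pt e P u r', by simp [L, map_add]⟩
    have := Submodule.finrank_mono hle
    rw [LinearMap.finrank_range_of_inj hinj, Module.finrank_prod, Module.finrank_fin_fun,
      hrank] at this
    omega
  push Not at htwo
  set p := N q with hp
  obtain ⟨η, hη⟩ := hfun hq
  set φ : (Fin n₁ → F) →ₗ[F] F := η.comp N with hφdef
  have hφ : ∀ x, N x = φ x • p := fun x => by
    obtain ⟨s, hs⟩ := Submodule.mem_span_singleton.mp (htwo x)
    simp [hφdef, ← hs, hη]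
  have hφq : φ q = 1 := by simp [hφdef, ← hp, hη]
  have hφp : φ p = 0 := by simp [hφdef, hp, hNN]
  have hK : Module.finrank F (LinearMap.ker φ) = n₁ - 1 := by
    have h := φ.finrank_range_add_finrank_ker
    have hr : LinearMap.range φ = ⊤ := LinearMap.range_eq_top.mpr fun s => ⟨s • q, by simp [hφq]⟩
    rw [hr, finrank_top, Module.finrank_self, Module.finrank_fin_fun] at h
    omega
  have hNk : ∀ k ∈ LinearMap.ker φ, N k = 0 := fun k hk => by
    rw [hφ, LinearMap.mem_ker.mp hk, zero_smul]
  by_cases hM : M = 0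
  · have hle : LinearMap.range Φ ≤ LinearMap.range (ptr e P p) := by
      have h : Φ = (ptr e P p).comp (conr e P φ) := ext_pt e P fun x r => by
        simp [hΦ, hM, hφ x, pt_smul_left, pt_smul_right, pt_zero_right]
      rw [h]
      exact LinearMap.range_comp_le_range _ _
    have h1 := Submodule.finrank_mono hle
    have h2 := (ptr e P p).finrank_range_le
    rw [Module.finrank_fin_fun] at h2
    omega
  obtain ⟨r₀, hr₀⟩ : ∃ r, M r ≠ 0 := by
    by_contra hc
    push Not at hc
    exact hM (LinearMap.ext hc)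
  by_cases hone : ∀ r, M r ∈ Submodule.span F {M r₀}
  · -- rank one
    set z := M r₀ with hz
    set K' := LinearMap.ker φ ⊓ LinearMap.ker η
    have hK' : Module.finrank F K' < n₁ - 1 := by
      rw [← hK]
      refine Submodule.finrank_lt_finrank_of_lt (lt_of_le_of_ne inf_le_left fun h => ?_)
      have : p ∈ K' := by rw [h]; exact hφp
      exact one_ne_zero (hη.symm.trans this.2)
    have hkerM : Module.finrank F (LinearMap.ker M) < n₂ := by
      have h : LinearMap.ker M ≠ ⊤ := fun h => hM (LinearMap.ker_eq_top.mp h)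
      have := Submodule.finrank_lt h
      rwa [Module.finrank_fin_fun] at this
    let L : (LinearMap.ker M × K') × F →ₗ[F] (ι → F) :=
      (((ptr e P p).comp (LinearMap.ker M).subtype).coprod ((ptl e P z).comp K'.subtype)).coprod
        (LinearMap.toSpanSingleton F (ι → F) (Φ (pt e P q r₀)))
    have hle : LinearMap.range Φ ≤ LinearMap.range L := by
      have hpure : ∀ x r, Φ (pt e P x r) ∈ LinearMap.range L := by
        intro x r
        obtain ⟨m, hm⟩ := Submodule.mem_span_singleton.mp (hone r)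
        set k := x - φ x • q with hk
        have hkφ : φ k = 0 := by simp [hk, hφq]
        have hk' : k - η k • p ∈ K' := by
          refine ⟨?_, ?_⟩
          · simp [hkφ, hφp]
          · simp [hη]
        have hr' : r - m • r₀ ∈ LinearMap.ker M := by simp [← hz, hm]
        have hzM : z ∈ LinearMap.ker M := by simp [hz, hMM]
        refine ⟨((φ x • ⟨r - m • r₀, hr'⟩ + (m * η k) • ⟨z, hzM⟩, m • ⟨k - η k • p, hk'⟩),
          φ x * m), ?_⟩
        simp only [L, LinearMap.coprod_apply, LinearMap.comp_apply, Submodule.subtype_apply,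
          Submodule.coe_add, Submodule.coe_smul, ptr_apply, ptl_apply,
          LinearMap.toSpanSingleton_apply, hΦ, hφ x, ← hp, ← hm, ← hz]
        simp only [hk, pt_smul_left, pt_smul_right, pt_add_right, pt_sub_left, pt_sub_right]
        module
      have h0 : ∀ v, Φ v ∈ LinearMap.range L := by
        have hq0 : ((LinearMap.range L).mkQ).comp Φ = 0 := ext_pt e P fun x r => by
          simpa using hpure x r
        intro v
        simpa using LinearMap.congr_fun hq0 v
      rintro _ ⟨v, rfl⟩
      exact h0 v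
    have h1 := Submodule.finrank_mono hle
    have h2 := L.finrank_range_le
    rw [Module.finrank_prod, Module.finrank_prod, Module.finrank_self] at h2
    omega
  push Not at hone
  obtain ⟨r₁, hr₁⟩ := hone
  set Z := Submodule.span F (Set.range ![M r₀, M r₁]) with hZ
  obtain ⟨T, hT⟩ := Z.exists_isCompl
  have hTd : n₂ ≤ 2 + Module.finrank F T := by
    have h := Submodule.finrank_add_eq_of_isCompl hT
    have h3 := finrank_range_le_card (R := F) ![M r₀, M r₁]
    rw [Set.finrank, Fintype.card_fin] at h3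
    rw [Module.finrank_fin_fun, hZ] at h
    omega
  have hz₀ : M r₀ ∈ Z := Submodule.subset_span ⟨0, rfl⟩
  have hz₁ : M r₁ ∈ Z := Submodule.subset_span ⟨1, rfl⟩
  let L : (LinearMap.ker φ × LinearMap.ker φ) × T →ₗ[F] (ι → F) :=
    (((ptl e P (M r₀)).comp (LinearMap.ker φ).subtype).coprod
      ((ptl e P (M r₁)).comp (LinearMap.ker φ).subtype)).coprod
        ((Φ.comp (ptr e P q)).comp T.subtype)
  have hinj : Function.Injective L := by
    rw [injective_iff_map_eq_zero]
    rintro ⟨⟨⟨k₀, hk₀⟩, ⟨k₁, hk₁⟩⟩, ⟨r, hr⟩⟩ h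
    simp only [LinearMap.mem_ker] at hk₀ hk₁
    simp only [L, LinearMap.coprod_apply, LinearMap.comp_apply, Submodule.subtype_apply,
      ptl_apply, ptr_apply, hΦ, ← hp] at h
    have e1 := congrArg (conr e P φ) h
    simp only [map_add, conr_pt, hφq, hk₀, hk₁, hφp, zero_smul, one_smul, zero_add,
      map_zero] at e1
    rw [e1, add_zero, pt_zero_right, add_zero] at h
    have hr0 : r = 0 := by
      by_contra hr0
      obtain ⟨ψ, hψ, hψr⟩ := exists_functional_eq_one (U := Z) (x := r) (fun hm => hr0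
        ((Submodule.disjoint_def.mp hT.disjoint) r hm hr))
      have := congrArg (con e P ψ) h
      simp only [map_add, con_pt, hψ _ hz₀, hψ _ hz₁, hψr, zero_smul, one_smul, zero_add,
        map_zero] at this
      exact hq this
    subst hr0
    rw [pt_zero_right, add_zero] at h
    obtain ⟨ψ, hψ, hψ1⟩ := exists_functional_eq_one hr₁
    have e2 := congrArg (con e P ψ) h
    simp only [map_add, con_pt, hψ _ (Submodule.mem_span_singleton_self _), hψ1, zero_smul,
      one_smul, zero_add, map_zero] at e2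
    rw [e2, pt_zero_left, add_zero] at h
    have e3 : k₀ = 0 := pt_inj_left e P hr₀ (h.trans (pt_zero_left e P _).symm)
    subst e3 e2
    rfl
  have hle : LinearMap.range L ≤ LinearMap.range Φ := by
    rintro _ ⟨⟨⟨⟨k₀, hk₀⟩, ⟨k₁, hk₁⟩⟩, ⟨r, hr⟩⟩, rfl⟩
    refine ⟨pt e P k₀ r₀ + pt e P k₁ r₁ + pt e P q r, ?_⟩
    simp [L, map_add, hΦ, hNk k₀ hk₀, hNk k₁ hk₁, pt_zero_left]
  have := Submodule.finrank_mono hle
  rw [LinearMap.finrank_range_of_inj hinj, Module.finrank_prod, Module.finrank_prod, hK,
    hrank] at this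
  omega

end CfsgLib.Geometric.Tensor
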